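import Cfsg.Agent.Omega.NO3S.SOne.KA
import Cfsg.Agent.Omega.NO3S.SOne.PU.TwoOf
import Cfsg.Agent.Omega.NO3S.SOne.Par

/-!
# GammaFF, (S1), `q₀ = 2`: the end (helper480, #21693; (T5) of #22459)

* `SO.false_of_two` : `SO`, `Key V F B`, `Two S P₁`, `C_Z(P) = 1` and the passivity of `P` for all conjugates of `W` under
  `⟨P, P₁⟩` are contradictory (the field `pas` of `SO` is not used).
-/

set_option autoImplicit false

namespace Cfsg.Agent.Omega.NO3S.SOne

open Subgroup Cfsg Cfsg.Agent.ZN Cfsg.Agent.Omega.MinPar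
open Cfsg.Agent.Omega.NOne.Flat (EE NN conj_eq_of_norm)
open Cfsg.Agent.Omega.NO3S.Pas (Key)
open Cfsg.Agent.Omega.NoFF.Basic (conj_conj mem_conj conj_le_iff conj_le_centralizer)
open scoped Pointwise

universe u

variable {G : Type u} [Group G] [Finite G] {S : Sylow 2 G} {V F B P P₁ : Subgroup G}

omit [Finite G] in
theorem PU.conj_zpowers (g r : G) : MulAut.conj g • zpowers r = zpowers (g * r * g⁻¹) := by
  change (zpowers r).map (MulAut.conj g).toMonoidHom = _
  rw [MonoidHom.map_zpowers]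
  rfl

omit [Finite G] in
theorem PU.conj_commutator (g : G) (A C : Subgroup G) :
    MulAut.conj g • ⁅A, C⁆ = ⁅MulAut.conj g • A, MulAut.conj g • C⁆ := Subgroup.map_commutator _ _ _

namespace SO

variable (so : SO S V F B P P₁)
include so

/-- `⁅L₁, W^y⁆ = ⁅L₁, W⁆^y` for `W^y ≤ S` which moves `L₁` -/
theorem comm_conj_two (hk : Key V F B) {y : G} (hy : y ∈ P ⊔ P₁)
    (hS : MulAut.conj y • NOne.Flat.WW V F ≤ (S : Subgroup G))
    (hmov : ¬ MulAut.conj y • NOne.Flat.WW V F ≤ centralizer (zl (S : Subgroup G) P₁ : Set G)) :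
    ⁅zl (S : Subgroup G) P₁, MulAut.conj y • NOne.Flat.WW V F⁆ =
      MulAut.conj y • ⁅zl (S : Subgroup G) P₁, NOne.Flat.WW V F⁆ := by
  have hy' := inv_mem hy
  have hI := so.line_le_I hy' (by rw [le_conj_iff, inv_inv]; exact hS)
  have hmv : ¬ NOne.Flat.WW V F ≤
      centralizer ((MulAut.conj y⁻¹ • zl (S : Subgroup G) P₁ : Subgroup G) : Set G) := by
    intro h1
    apply hmov
    have h2 := conj_le_centralizer (g := y) h1
    rwa [conj_smul_inv] at h2
  rw [so.comm_eq hk so.L_le_I hI so.mov hmv, PU.conj_commutator, conj_smul_inv]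

/-- **(S1), `q₀ = 2`.** -/
theorem false_of_two (hk : Key V F B) (two : Two (S : Subgroup G) P₁)
    (hCP : zc (S : Subgroup G) ⊓ centralizer (P : Set G) = ⊥)
    (hpas : ∀ y ∈ P ⊔ P₁, MulAut.conj y • NOne.Flat.WW V F ≤ (S : Subgroup G) →
      MulAut.conj y • NOne.Flat.WW V F ≤ o2 P) : False := by
  have hVc : ∀ x ∈ V, ∀ y ∈ V, x * y = y * x := fun x hx y hy => mem_centralizer_iff.1 (so.comm hy) x hx
  have hka1 := so.ka_one hk
  obtain ⟨r, hr1, hr, g₀, hg₀, hmv, hfx⟩ := two.pt _ hka1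
  have hWN : NOne.Flat.WW V F ≤ normalizer (zl (S : Subgroup G) P₁ : Set G) :=
    so.WS.trans (so.SP₁.trans so.PL)
  have hrV : r ∈ V := by
    have h1 : r ∈ ⁅zl (S : Subgroup G) P₁, NOne.Flat.WW V F⁆ := by rw [hr]; exact mem_zpowers r
    exact so.L_le_V (le_normalizer_iff_commutator_le_left.1 hWN h1)
  have hr2 : r ^ 2 = 1 := so.sq r hrV
  have hQS : o2 P₁ ≤ (S : Subgroup G) := by
    rw [← so.o2_eq]
    exact inf_le_left
  have hQPS : o2 P ≤ (S : Subgroup G) := by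
    rw [← so.hP.inf_centralizer S so.hc]
    exact inf_le_left
  refine Par.par (S := (S : Subgroup G)) (P := P) (P₁ := P₁) (Q₁ := o2 P₁) (V := V) hVc so.PV so.P₁V so.SP
    (fun g hg => ?_) hQS (fun v hv hvP => ?_) {w | ∃ y ∈ P ⊔ P₁, w = Par.cp y (NOne.Flat.WW V F, r)} ?_ ?_ ?_
    (W₁ := NOne.Flat.WW V F) (r₁ := r) ⟨1, one_mem _, (Par.cp_one _).symm⟩ so.WS so.act ?_ hg₀ hmv hfx
  · exact (conj_eq_of_norm (MinSimple.VModule.le_normalizer_o2 P₁ hg)).le
  · have hvS : v ∈ (S : Subgroup G) := by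
      have h1 : zpowers v ≤ normalizer ((S : Subgroup G) : Set G) := by
        rw [zpowers_le]
        refine centralizer_le_normalizer _ ?_
        rw [mem_centralizer_iff]
        intro s hs
        exact mul_inv_eq_iff_eq_mul.1 (hvP s (so.SP hs))
      have h2 : IsPGroup 2 (zpowers v) := by
        rintro ⟨x, n, rfl⟩
        refine ⟨1, Subtype.ext ?_⟩
        change (v ^ n) ^ 2 ^ 1 = 1
        rw [pow_one, ← zpow_natCast, ← zpow_mul, mul_comm, zpow_mul, zpow_natCast, so.sq v hv, one_zpow]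
      have h3 := S.2.to_sup_of_normal_left' h2 h1
      have h6 : (S : Subgroup G) ⊔ zpowers v = (S : Subgroup G) := S.3 h3 le_sup_left
      have h5 : zpowers v ≤ (S : Subgroup G) := by
        rw [← h6]
        exact le_sup_right
      exact h5 (mem_zpowers v)
    have h1 : v ∈ zc (S : Subgroup G) ⊓ centralizer (P : Set G) := by
      refine mem_inf.2 ⟨MinSimple.VModule.mem_zc.2 ⟨hvS, fun b hb => ?_, so.sq v hv⟩, ?_⟩
      · exact mul_inv_eq_iff_eq_mul.1 (hvP b (so.SP hb))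
      · rw [mem_centralizer_iff]
        intro p hp
        exact mul_inv_eq_iff_eq_mul.1 (hvP p hp)
    rwa [hCP, mem_bot] at h1
  · rintro _ ⟨y, hy, rfl⟩
    exact (mem_normalizer_iff.1 (so.YV hy) r).1 hrV
  · rintro _ ⟨y, hy, rfl⟩ g hg
    exact ⟨g * y, mul_mem hg hy, (Par.cp_mul _ _ _).symm⟩
  · rintro _ ⟨y, hy, rfl⟩ hS p hp
    have h1 := hpas y hy hS
    have h2 : MulAut.conj p • (MulAut.conj y • NOne.Flat.WW V F) ≤ MulAut.conj p • o2 P := conj_le_iff.2 h1
    refine h2.trans ?_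
    rw [conj_eq_of_norm (MinSimple.VModule.le_normalizer_o2 P hp)]
    exact hQPS
  · rintro _ ⟨y, hy, rfl⟩ hS hQ
    have hka' := so.ka hk hy hS hQ
    obtain ⟨s, hs, he⟩ := two.cls _ _ hka1 hka'
    refine ⟨s, hs, ?_⟩
    change y * r * y⁻¹ = s * r * s⁻¹
    rw [so.comm_conj_two hk hy hS hka'.off.ne, hr, PU.conj_zpowers, PU.conj_zpowers] at he
    have h1 : y * r * y⁻¹ ∈ zpowers (s * r * s⁻¹) := by
      rw [← he]
      exact mem_zpowers _
    obtain ⟨n, hn⟩ := mem_zpowers_iff.1 h1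
    have h2 : (s * r * s⁻¹) ^ 2 = 1 := by rw [conj_pow, hr2]; group
    have h3 : ∀ j : ℤ, (s * r * s⁻¹) ^ (2 * j) = 1 := by
      intro j
      rw [zpow_mul, zpow_ofNat, h2, one_zpow]
    rcases Int.even_or_odd' n with ⟨j, rfl | rfl⟩
    · exfalso
      rw [h3] at hn
      apply hr1
      have e : y * r * y⁻¹ = 1 := hn.symm
      have e2 : r = y⁻¹ * (y * r * y⁻¹) * y := by group
      rw [e2, e]; group
    · rw [zpow_add, h3, one_mul, zpow_one] at hn
      exact hn.symm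

end SO

end Cfsg.Agent.Omega.NO3S.SOne
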