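import Cfsg.Agent.Omega.NSix.HTwo.Vec

/-!
# GammaFF, (S1), `q₀ = 2`: transvections in `S` on a module with a radical (helper480)

`Tvc V a r` : `a` acts on `V` as a transvection with centre `r`.

* `Tvc.off` : `⟨a⟩` is an offender;
* `nat_form`, `nat_conj`, `nat_move` : natural modules (`M : NatKM F S R V D k`, `D` arbitrary);
-/

set_option autoImplicit false

namespace Cfsg.Agent.Omega.NO3S.SOne.PU

open Subgroup Cfsg Cfsg.Agent.ZN.ChoiceBase Cfsg.Agent.ZN.ChoiceSit
open Cfsg.Agent.Omega.FFThm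
open Cfsg.Agent.Omega.NO3S.ThmB
open Cfsg.Agent.Lib.SL2Mat
open Cfsg.Agent.Omega.NatPair (ap)

universe u

variable {G : Type u} [Group G]

/-- `a` acts on `V` as a transvection with centre `r` -/
structure Tvc (V : Subgroup G) (a r : G) : Prop where
  cm : ∀ v ∈ V, a * v * a⁻¹ = v ∨ a * v * a⁻¹ = r * v
  mv : ∃ v ∈ V, a * v * a⁻¹ ≠ v

namespace Tvc

variable {V : Subgroup G} {a b r s : G}

theorem ne (h : Tvc V a r) : r ≠ 1 := by
  rintro rfl
  obtain ⟨v, hv, hn⟩ := h.mv
  rcases h.cm v hv with h1 | h1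
  · exact hn h1
  · exact hn (by rw [h1, one_mul])

theorem ex (h : Tvc V a r) : ∃ v ∈ V, a * v * a⁻¹ = r * v := by
  obtain ⟨v, hv, hn⟩ := h.mv
  exact ⟨v, hv, (h.cm v hv).resolve_left hn⟩

theorem mem (h : Tvc V a r) (ha : a ∈ normalizer (V : Set G)) : r ∈ V := by
  obtain ⟨v, hv, h1⟩ := h.ex
  have h2 : a * v * a⁻¹ ∈ V := (mem_normalizer_iff.1 ha v).1 hv
  rw [h1] at h2
  exact (V.mul_mem_cancel_right hv).1 h2

theorem conj (h : Tvc V a r) {g : G} (hg : g ∈ normalizer (V : Set G)) : Tvc V (g * a * g⁻¹) (g * r * g⁻¹) := by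
  have hg' : g⁻¹ ∈ normalizer (V : Set G) := inv_mem hg
  refine ⟨fun v hv => ?_, ?_⟩
  · have hw : g⁻¹ * v * g⁻¹⁻¹ ∈ V := (mem_normalizer_iff.1 hg' v).1 hv
    rcases h.cm _ hw with h1 | h1
    · left
      calc g * a * g⁻¹ * v * (g * a * g⁻¹)⁻¹ = g * (a * (g⁻¹ * v * g⁻¹⁻¹) * a⁻¹) * g⁻¹ := by group
        _ = v := by rw [h1]; group
    · right
      calc g * a * g⁻¹ * v * (g * a * g⁻¹)⁻¹ = g * (a * (g⁻¹ * v * g⁻¹⁻¹) * a⁻¹) * g⁻¹ := by group
        _ = g * r * g⁻¹ * v := by rw [h1]; group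
  · obtain ⟨v, hv, hn⟩ := h.mv
    refine ⟨g * v * g⁻¹, (mem_normalizer_iff.1 hg v).1 hv, fun h1 => hn ?_⟩
    have e : g * a * g⁻¹ * (g * v * g⁻¹) * (g * a * g⁻¹)⁻¹ = g * (a * v * a⁻¹) * g⁻¹ := by group
    rw [e] at h1
    exact mul_left_cancel (mul_right_cancel h1)

/-- the action determines the centre -/
theorem eq (h : Tvc V a r) (h' : Tvc V b s) (hs : ∀ v ∈ V, a * v * a⁻¹ = b * v * b⁻¹) : r = s := by
  obtain ⟨v, hv, hn⟩ := h.mv
  have h1 := (h.cm v hv).resolve_left hn
  have h2 := (h'.cm v hv).resolve_left (by rw [← hs v hv]; exact hn)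
  rw [hs v hv, h2] at h1
  exact (mul_right_cancel h1).symm

theorem fixr (h : Tvc V a r) (hV : IsElementaryAbelian 2 V) (ha : a ∈ normalizer (V : Set G)) :
    a * r * a⁻¹ = r := by
  rcases h.cm r (h.mem ha) with h1 | h1
  · exact h1
  · exfalso
    have h2 : r * r = 1 := by
      have := hV.2 r (h.mem ha)
      rwa [pow_two] at this
    rw [h2] at h1
    have h3 : a * r = a := mul_inv_eq_one.1 h1
    exact h.ne (mul_eq_left.1 h3)

theorem sq (h : Tvc V a r) (hV : IsElementaryAbelian 2 V) (ha : a ∈ normalizer (V : Set G)) :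
    a ^ 2 ∈ centralizer (V : Set G) := by
  have h2 : r * r = 1 := by
    have := hV.2 r (h.mem ha)
    rwa [pow_two] at this
  rw [mem_centralizer_iff]
  intro v hv
  have h3 : a * (a * v * a⁻¹) * a⁻¹ = v := by
    rcases h.cm v hv with h1 | h1
    · rw [h1, h1]
    · rw [h1]
      calc a * (r * v) * a⁻¹ = (a * r * a⁻¹) * (a * v * a⁻¹) := by group
        _ = r * r * v := by rw [h.fixr hV ha, h1, mul_assoc]
        _ = v := by rw [h2, one_mul]
  have h4 : a ^ 2 * v * (a ^ 2)⁻¹ = v := by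
    calc a ^ 2 * v * (a ^ 2)⁻¹ = a * (a * v * a⁻¹) * a⁻¹ := by rw [pow_two]; group
      _ = v := h3
  rw [mul_inv_eq_iff_eq_mul] at h4
  exact h4.symm

theorem zp (h : Tvc V a r) (hV : IsElementaryAbelian 2 V) (ha : a ∈ normalizer (V : Set G)) {x : G}
    (hx : x ∈ zpowers a) : (∀ v ∈ V, x * v * x⁻¹ = v) ∨ ∀ v ∈ V, x * v * x⁻¹ = a * v * a⁻¹ := by
  obtain ⟨n, rfl⟩ := mem_zpowers_iff.1 hx
  have h2 : ∀ j : ℤ, ∀ v ∈ V, a ^ (2 * j) * v * (a ^ (2 * j))⁻¹ = v := by
    intro j v hv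
    have h3 : a ^ (2 * j) ∈ centralizer (V : Set G) := by
      rw [zpow_mul, zpow_ofNat]
      exact zpow_mem (h.sq hV ha) j
    rw [← mem_centralizer_iff.1 h3 v hv, mul_inv_cancel_right]
  rcases Int.even_or_odd' n with ⟨j, rfl | rfl⟩
  · exact Or.inl (h2 j)
  · right
    intro v hv
    have e : a ^ (2 * j + 1) = a * a ^ (2 * j) := by rw [add_comm, zpow_add, zpow_one]
    rw [e]
    calc a * a ^ (2 * j) * v * (a * a ^ (2 * j))⁻¹ = a * (a ^ (2 * j) * v * (a ^ (2 * j))⁻¹) * a⁻¹ := by group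
      _ = a * v * a⁻¹ := by rw [h2 j v hv]

theorem mem_cent_iff {x : G} (v : G) : x ∈ centralizer ({v} : Set G) ↔ x * v * x⁻¹ = v := by
  rw [mem_centralizer_singleton_iff, mul_inv_eq_iff_eq_mul]

/-- a transvection is an offender -/
theorem off [Finite G] (h : Tvc V a r) (hV : IsElementaryAbelian 2 V) (ha : a ∈ normalizer (V : Set G)) :
    OffM V (zpowers a) where
  sq := by
    intro x hx
    obtain ⟨n, rfl⟩ := mem_zpowers_iff.1 hx
    have e : (a ^ n) ^ 2 = (a ^ 2) ^ n := by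
      rw [← zpow_natCast, ← zpow_natCast, ← zpow_mul, ← zpow_mul, mul_comm]
    rw [e]
    exact zpow_mem (h.sq hV ha) n
  comm := by
    intro x hx y hy
    obtain ⟨n, rfl⟩ := mem_zpowers_iff.1 hx
    obtain ⟨m, rfl⟩ := mem_zpowers_iff.1 hy
    have e : a ^ n * a ^ m * (a ^ n)⁻¹ * (a ^ m)⁻¹ = 1 := by
      rw [← zpow_add, add_comm, zpow_add]; group
    rw [e]
    exact one_mem _
  ne := by
    intro h1
    obtain ⟨v, hv, hn⟩ := h.mv
    apply hn
    rw [← mem_centralizer_iff.1 (h1 (mem_zpowers a)) v hv, mul_inv_cancel_right]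
  le := by
    rw [relIndex_le_iff]
    have h1 : (centralizer ((zpowers a : Subgroup G) : Set G)).relIndex V = 2 := by
      rw [Subgroup.relIndex_eq_two_iff]
      obtain ⟨w, hw, hn⟩ := h.mv
      have hw1 := (h.cm w hw).resolve_left hn
      have hmem : ∀ v ∈ V, v ∈ centralizer ((zpowers a : Subgroup G) : Set G) ↔ a * v * a⁻¹ = v := by
        intro v _
        constructor
        · intro h2
          rw [mem_centralizer_iff.1 h2 a (mem_zpowers a), mul_inv_cancel_right]
        · intro h2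
          rw [mem_centralizer_iff]
          intro x hx
          obtain ⟨n, rfl⟩ := mem_zpowers_iff.1 hx
          have h3 : Commute a v := mul_inv_eq_iff_eq_mul.1 h2
          exact (h3.zpow_left n).eq
      refine ⟨w, hw, fun v hv => ?_⟩
      rw [hmem _ (mul_mem hv hw), hmem v hv]
      have e : a * (v * w) * a⁻¹ = (a * v * a⁻¹) * (a * w * a⁻¹) := by group
      rw [e, hw1]
      have hr2 : r * r = 1 := by
        have := hV.2 r (h.mem ha)
        rwa [pow_two] at this
      have hcomm : ∀ x ∈ V, ∀ y ∈ V, x * y = y * x := fun x hx y hy =>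
        congrArg Subtype.val (hV.1.is_comm.comm ⟨x, hx⟩ ⟨y, hy⟩)
      rcases h.cm v hv with h2 | h2
      · right
        refine ⟨h2, fun h3 => h.ne ?_⟩
        rw [h2] at h3
        have h4 : v * (r * w) = r * (v * w) := by
          rw [← mul_assoc, hcomm v hv r (h.mem ha), mul_assoc]
        rw [h4] at h3
        exact mul_eq_right.1 h3
      · left
        refine ⟨?_, fun h3 => h.ne ?_⟩
        · rw [h2]
          calc r * v * (r * w) = r * (v * r) * w := by group
            _ = r * (r * v) * w := by rw [hcomm v hv r (h.mem ha)]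
            _ = r * r * (v * w) := by group
            _ = v * w := by rw [hr2, one_mul]
        · rw [h2] at h3
          exact mul_eq_right.1 h3
    rw [h1]
    have h2 : (centralizer (V : Set G)).relIndex (zpowers a) ≠ 0 := Subgroup.index_ne_zero_of_finite
    have h3 : (centralizer (V : Set G)).relIndex (zpowers a) ≠ 1 := by
      rw [Ne, relIndex_eq_one]
      intro h1
      obtain ⟨v, hv, hn⟩ := h.mv
      apply hn
      rw [← mem_centralizer_iff.1 (h1 (mem_zpowers a)) v hv, mul_inv_cancel_right]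
    omega

end Tvc

/-! ### Natural modules -/

section nat

variable [Finite G] {F : Type} [Field F] [CharP F 2] {S R V D : Subgroup G} {k : ℕ} {M : NatKM F S R V D k}

/-- a transvection in `S` acts as the transvection of one block, and `|F| = 2` -/
theorem nat_form (h : Nb M) {a r : G} (ha : a ∈ S) (t : Tvc V a r) :
    ∃ i, ActsSL M.e V D a (sg i (up 1)) ∧ (∀ c : F, c ≠ 0 → c = 1) ∧ M.e r i = ![1, 0] ∧
      ∀ l, l ≠ i → M.e r l = 0 := by
  have haR : a ∈ R := h.SP' ha
  have haV : a ∈ normalizer (V : Set G) := h.VP' haR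
  have hr : r ∈ V := t.mem haV
  obtain ⟨I, h1, h2⟩ := M.offM (zpowers a) (zpowers_le.2 ha) (t.off h.V2 haV)
  obtain ⟨b, hb, hab⟩ := h1 a (mem_zpowers a)
  obtain ⟨i, hi⟩ : ∃ i, b i ≠ 0 := by
    by_contra hcon
    push Not at hcon
    obtain ⟨v, hv, hn⟩ := t.mv
    apply hn
    rw [mul_inv_eq_iff_eq_mul]
    refine h.comm_of_one haR ?_ hv
    have e : (fun i => up (b i)) = (1 : Fin k → Matrix.SpecialLinearGroup (Fin 2) F) := by
      funext l
      rw [hcon l, up_zero]
      rfl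
    rwa [e] at hab
  have key : ∀ j, b j ≠ 0 → M.e r j = ![b j, 0] ∧ ∀ l, l ≠ j → M.e r l = 0 := by
    intro j hj
    obtain ⟨v, hv, hvj, hvl⟩ := Nb.exists_single M j ![0, 1]
    have h3 : M.e (a * v * a⁻¹) j = ![b j, 1] := by
      rw [hab.1 v hv j, hvj]
      exact vec_eq (by rw [ap_up_0]; simp) (by rw [ap_up_1]; simp)
    have h4 : a * v * a⁻¹ ≠ v := by
      intro h5
      rw [h5, hvj] at h3
      exact hj (congrFun h3 0).symm
    have h5 := (t.cm v hv).resolve_left h4
    have h6 : ∀ l, M.e r l = M.e (a * v * a⁻¹) l + M.e v l := by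
      intro l
      rw [h5, M.mul r hr v hv, Pi.add_apply]
      have : M.e v l + M.e v l = 0 := by
        funext x
        exact CharTwo.add_self_eq_zero _
      rw [add_assoc, this, add_zero]
    refine ⟨?_, fun l hl => ?_⟩
    · rw [h6, h3, hvj]
      refine vec_eq ?_ ?_
      · simp
      · simp only [Pi.add_apply, Matrix.cons_val_one, Matrix.cons_val_zero]
        exact CharTwo.add_self_eq_zero _
    · rw [h6, hab.1 v hv l, hvl l hl, ap_zr, add_zero]
  have huniq : ∀ l, l ≠ i → b l = 0 := by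
    intro l hl
    by_contra hc
    have h3 := (key i hi).2 l hl
    rw [(key l hc).1] at h3
    exact hc (congrFun h3 0)
  have hiI : i ∈ I := by
    by_contra hc
    exact hi (hb i hc)
  obtain ⟨v, hv, hvi, hvl⟩ := Nb.exists_single M i ![0, 1]
  have hall : ∀ c : F, c = 0 ∨ c = b i := by
    intro c
    obtain ⟨x, hx, hxa⟩ := h2 (Pi.single i c) fun l hl => by
      rw [Pi.single_eq_of_ne]
      rintro rfl
      exact hl hiI
    have h3 := h.up_entry hxa hv hvi
    rw [Pi.single_eq_same] at h3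
    rcases t.zp h.V2 haV hx with h4 | h4
    · left
      rw [h4 v hv, hvi] at h3
      exact h3.symm
    · right
      rw [h4 v hv, h.up_entry hab hv hvi] at h3
      exact h3.symm
  have hb1 : b i = 1 := ((hall 1).resolve_left one_ne_zero).symm
  refine ⟨i, ?_, fun c hc => by rw [(hall c).resolve_left hc, hb1], ?_, (key i hi).2⟩
  · have e : (fun l => up (b l)) = sg i (up (1 : F)) := by
      funext l
      by_cases hl : l = i
      · subst hl
        rw [sg_self, hb1]
      · rw [sg_ne hl, huniq l hl, up_zero]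
    rwa [e] at hab
  · rw [(key i hi).1, hb1]

omit [Finite G] [CharP F 2] in
theorem vec_ne : (![1, 0] : Fin 2 → F) ≠ 0 := fun h => one_ne_zero (congrFun h 0)

/-- the centres of the transvections in `S` are conjugate -/
theorem nat_conj (h : Nb M) {a r b s : G} (ha : a ∈ S) (hb : b ∈ S) (t : Tvc V a r) (t' : Tvc V b s) :
    ∃ x ∈ S, s = x * r * x⁻¹ := by
  obtain ⟨i, hi, -, hri, -⟩ := nat_form h ha t
  obtain ⟨j, hj, -, -, -⟩ := nat_form h hb t'
  obtain ⟨x, hx, hxe⟩ := M.trans i j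
  have hxV : x ∈ normalizer (V : Set G) := h.VP' (h.SP' hx)
  have hxa : x * a * x⁻¹ ∈ S := mul_mem (mul_mem hx ha) (inv_mem hx)
  obtain ⟨l, hl, -, -, hrl⟩ := nat_form h hxa (t.conj hxV)
  have hlj : j = l := by
    by_contra hne
    have h1 := (hxe r (t.mem (h.VP' (h.SP' ha)))).1 (hrl j hne)
    rw [hri] at h1
    exact vec_ne h1
  subst hlj
  exact ⟨x, hx, t'.eq (t.conj hxV) fun v hv => h.same (h.SP' hb) (h.SP' hxa) hj hl hv⟩

/-- an element which moves the centre of `a` and fixes all its other conjugates under `S` -/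
theorem nat_move (h : Nb M) {a r : G} (ha : a ∈ S) (t : Tvc V a r) :
    ∃ g ∈ R, g * r * g⁻¹ ≠ r ∧ ∀ s ∈ S, s * r * s⁻¹ ≠ r → g * (s * r * s⁻¹) * g⁻¹ = s * r * s⁻¹ := by
  obtain ⟨i, hi, -, hri, -⟩ := nat_form h ha t
  obtain ⟨g, hg, hgA⟩ := M.lift (sg i (lo 1))
  have hrV := t.mem (h.VP' (h.SP' ha))
  refine ⟨g, hg, fun h1 => ?_, fun s hs hne => ?_⟩
  · have h2 := hgA.1 r hrV i
    rw [h1, hri, sg_self] at h2
    have h3 := congrFun h2 1
    rw [ap_lo_1] at h3
    simp at h3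
  · have hsV : s ∈ normalizer (V : Set G) := h.VP' (h.SP' hs)
    have hsa : s * a * s⁻¹ ∈ S := mul_mem (mul_mem hs ha) (inv_mem hs)
    have hsaR := h.SP' hsa
    have ts := t.conj hsV
    obtain ⟨j, hj, -, -, -⟩ := nat_form h hsa ts
    have hji : j ≠ i := by
      rintro rfl
      exact hne (ts.eq t fun v hv => h.same hsaR (h.SP' ha) hj hi hv)
    have hgV : g ∈ normalizer (V : Set G) := h.VP' hg
    have hcomm : sg i (lo (1 : F)) * sg j (up (1 : F)) = sg j (up (1 : F)) * sg i (lo (1 : F)) :=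
      sg_comm (sg_ne hji _) _
    have h1 := h.acts_mul (mul_mem hsaR (inv_mem hg)) hgA (h.acts_mul (inv_mem hg) hj (h.acts_inv hg hgA))
    have e : sg i (lo (1 : F)) * (sg j (up (1 : F)) * (sg i (lo (1 : F)))⁻¹) = sg j (up (1 : F)) := by
      rw [← mul_assoc, hcomm, mul_inv_cancel_right]
    have e2 : g * (s * a * s⁻¹ * g⁻¹) = g * (s * a * s⁻¹) * g⁻¹ := by group
    rw [e, e2] at h1
    exact (ts.conj hgV).eq ts fun v hv =>
      h.same (mul_mem (mul_mem hg hsaR) (inv_mem hg)) hsaR h1 hj hv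

end nat

end Cfsg.Agent.Omega.NO3S.SOne.PU
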